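/-
The test that the map commutes with the ten generators, at one coset.
-/
import Cfsg.Agent.Lib.Spor.Fi24Pres.Test
import Cfsg.Agent.Lib.Spor.Fi24Pres.Phi.Data
import Cfsg.Agent.Lib.Spor.Fi23.ActF.Data

namespace CfsgLib.Spor.Fi24

open CfsgLib.Spor.TC

/-- All tests at one coset. -/
noncomputable def phiTest (c : ℕ) : Bool :=
  strict (phi c) fun q => strict (row q) fun r =>
  (Nat.blt q 306936 && Nat.beq (Nat.land (Nat.shiftRight r 0) 524287) q &&
    (Nat.blt c 9 || !(Nat.beq q 3965 || Nat.beq q 3964 || Nat.beq q 3963 || Nat.beq q 3962 || Nat.beq q 3961 || Nat.beq q 3959 || Nat.beq q 3957 || Nat.beq q 3958 || Nat.beq q 3810)) &&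
    Nat.beq (Nat.land (Nat.shiftRight r 38) 524287) (phi (Fi23.ActF.act.T 0 c)) &&
    Nat.beq (Nat.land (Nat.shiftRight r 57) 524287) (phi (Fi23.ActF.act.T 1 c)) &&
    Nat.beq (Nat.land (Nat.shiftRight r 76) 524287) (phi (Fi23.ActF.act.T 2 c)) &&
    Nat.beq (Nat.land (Nat.shiftRight r 95) 524287) (phi (Fi23.ActF.act.T 3 c)) &&
    Nat.beq (Nat.land (Nat.shiftRight r 114) 524287) (phi (Fi23.ActF.act.T 4 c)) &&
    Nat.beq (Nat.land (Nat.shiftRight r 133) 524287) (phi (Fi23.ActF.act.T 5 c)) &&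
    Nat.beq (Nat.land (Nat.shiftRight r 152) 524287) (phi (Fi23.ActF.act.T 6 c)) &&
    Nat.beq (Nat.land (Nat.shiftRight r 171) 524287) (phi (Fi23.ActF.act.T 7 c)) &&
    Nat.beq (Nat.land (Nat.shiftRight r 190) 524287) (phi (Fi23.ActF.act.T 8 c)) &&
    Nat.beq (Nat.land (Nat.shiftRight r 209) 524287) (phi (Fi23.ActF.act.T 9 c)))

theorem phi_base : (List.range 9).map phi = [3965, 3964, 3963, 3962, 3961, 3959, 3957, 3958, 3810] := by decide +kernel

end CfsgLib.Spor.Fi24
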