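/-
The tests on a range of cosets.
-/
import Cfsg.Agent.Lib.Spor.Fi24Pres.Phi.Test

namespace CfsgLib.Spor.Fi24

open CfsgLib.Spor.TC

set_option maxRecDepth 100000 in
theorem phiRange4000 : RangeTest phiTest 4000 5000 :=
  RangeTest.of_check (by decide +kernel)

set_option maxRecDepth 100000 in
theorem phiRange5000 : RangeTest phiTest 5000 6000 :=
  RangeTest.of_check (by decide +kernel)

set_option maxRecDepth 100000 in
theorem phiRange6000 : RangeTest phiTest 6000 7000 :=
  RangeTest.of_check (by decide +kernel)

set_option maxRecDepth 100000 in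
theorem phiRange7000 : RangeTest phiTest 7000 8000 :=
  RangeTest.of_check (by decide +kernel)

end CfsgLib.Spor.Fi24
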