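/-
The tests on a range of cosets.
-/
import Cfsg.Agent.Lib.Spor.Fi24Pres.Phi.Test

namespace CfsgLib.Spor.Fi24

open CfsgLib.Spor.TC

set_option maxRecDepth 100000 in
theorem phiRange8000 : RangeTest phiTest 8000 9000 :=
  RangeTest.of_check (by decide +kernel)

set_option maxRecDepth 100000 in
theorem phiRange9000 : RangeTest phiTest 9000 10000 :=
  RangeTest.of_check (by decide +kernel)

set_option maxRecDepth 100000 in
theorem phiRange10000 : RangeTest phiTest 10000 11000 :=
  RangeTest.of_check (by decide +kernel)

set_option maxRecDepth 100000 in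
theorem phiRange11000 : RangeTest phiTest 11000 12000 :=
  RangeTest.of_check (by decide +kernel)

end CfsgLib.Spor.Fi24
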