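/-
The tests on all cosets.
-/
import Cfsg.Agent.Lib.Spor.Fi24Pres.Phi.Part0
import Cfsg.Agent.Lib.Spor.Fi24Pres.Phi.Part1
import Cfsg.Agent.Lib.Spor.Fi24Pres.Phi.Part2
import Cfsg.Agent.Lib.Spor.Fi24Pres.Phi.Part3
import Cfsg.Agent.Lib.Spor.Fi24Pres.Phi.Part4
import Cfsg.Agent.Lib.Spor.Fi24Pres.Phi.Part5
import Cfsg.Agent.Lib.Spor.Fi24Pres.Phi.Part6
import Cfsg.Agent.Lib.Spor.Fi24Pres.Phi.Part7

namespace CfsgLib.Spor.Fi24

open CfsgLib.Spor.TC

theorem all_phi : RangeTest phiTest 0 31671 :=
  (((((phiRange0.append phiRange1000).append (phiRange2000.append phiRange3000)).append ((phiRange4000.append phiRange5000).append (phiRange6000.append phiRange7000))).append (((phiRange8000.append phiRange9000).append (phiRange10000.append phiRange11000)).append ((phiRange12000.append phiRange13000).append (phiRange14000.append phiRange15000)))).append ((((phiRange16000.append phiRange17000).append (phiRange18000.append phiRange19000)).append ((phiRange20000.append phiRange21000).append (phiRange22000.append phiRange23000))).append (((phiRange24000.append phiRange25000).append (phiRange26000.append phiRange27000)).append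 ((phiRange28000.append phiRange29000).append (phiRange30000.append phiRange31000)))))

end CfsgLib.Spor.Fi24
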